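import Mathlib

/-!
# Theorem L (S2464): the coprime splitting of a matrix (helper236 for helper957)
-/

set_option autoImplicit false

namespace Cfsg.Agent.H236.TL

open Polynomial Matrix

universe u

/-- intertwining maps and polynomials -/
theorem aeval_intertwine {F V W : Type*} [CommRing F] [AddCommGroup V] [Module F V] [AddCommGroup W] [Module F W]
    (i : W →ₗ[F] V) (f : Module.End F W) (g : Module.End F V) (h : ∀ x, i (f x) = g (i x)) (p : F[X]) (x : W) :
    i (aeval f p x) = aeval g p (i x) := by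
  have hpow : ∀ (n : ℕ) (x : W), i ((f ^ n) x) = (g ^ n) (i x) := by
    intro n
    induction n with
    | zero => intro x; rfl
    | succ n ih =>
      intro x
      rw [pow_succ, pow_succ, Module.End.mul_apply, Module.End.mul_apply, ih, h]
  induction p using Polynomial.induction_on' with
  | add p q hp hq => rw [map_add, map_add, LinearMap.add_apply, LinearMap.add_apply, map_add, hp, hq]
  | monomial n c =>
    rw [aeval_monomial, aeval_monomial, Module.End.mul_apply, Module.End.mul_apply, Module.algebraMap_end_apply,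
      Module.algebraMap_end_apply, map_smul, hpow]

/-- `p(B) = 0`, `p` and `q` coprime: the characteristic polynomial of `B` is coprime to `q` -/
theorem isCoprime_charpoly {F : Type u} [Field F] {m : Type*} [Fintype m] [DecidableEq m] (B : Matrix m m F) {p q : F[X]}
    (hB : aeval B p = 0) (h : IsCoprime p q) : IsCoprime B.charpoly q := by
  rw [Polynomial.isCoprime_iff_aeval_ne_zero_of_isAlgClosed F (AlgebraicClosure F)]
  intro a
  by_contra hcon
  rw [not_or, not_not, not_not] at hcon
  obtain ⟨h1, h2⟩ := hcon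
  have h3 : (Matrix.toLin' (B.map (algebraMap F (AlgebraicClosure F)))).charpoly.IsRoot a := by
    rw [Matrix.charpoly_toLin', Matrix.charpoly_map, IsRoot.def, eval_map_algebraMap]
    exact h1
  obtain ⟨v, hv⟩ := ((Module.End.hasEigenvalue_iff_isRoot_charpoly _ _).2 h3).exists_hasEigenvector
  have h5 := Module.End.aeval_apply_of_hasEigenvector (p := p.map (algebraMap F (AlgebraicClosure F))) hv
  have h6 : aeval (Matrix.toLin' (B.map (algebraMap F (AlgebraicClosure F)))) (p.map (algebraMap F (AlgebraicClosure F))) = 0 := by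
    have e1 : Matrix.toLin' (B.map (algebraMap F (AlgebraicClosure F))) =
        (Matrix.toLinAlgEquiv' : Matrix m m (AlgebraicClosure F) ≃ₐ[AlgebraicClosure F] _).toAlgHom
          (B.map (algebraMap F (AlgebraicClosure F))) := rfl
    have e2 : B.map (algebraMap F (AlgebraicClosure F)) = (Algebra.ofId F (AlgebraicClosure F)).mapMatrix B := rfl
    rw [e1, aeval_algHom_apply, aeval_map_algebraMap, e2, aeval_algHom_apply, hB, map_zero, map_zero]
  rw [h6, LinearMap.zero_apply, eval_map_algebraMap] at h5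
  have h7 : aeval a p = 0 := (smul_eq_zero.1 h5.symm).resolve_right hv.2
  rcases Polynomial.aeval_ne_zero_of_isCoprime h a with h8 | h8
  · exact h8 h7
  · exact h8 h2

theorem eq_of_coprime {F : Type u} [Field F] {c₁ c₂ p q : F[X]} (h1 : c₁.Monic) (h2 : c₂.Monic) (hp : p.Monic) (hq : q.Monic)
    (h : c₁ * c₂ = p * q) (hc : IsCoprime c₁ q) (hc' : IsCoprime c₂ p) : c₁ = p ∧ c₂ = q := by
  have d1 : c₁ ∣ p := hc.dvd_of_dvd_mul_right (h ▸ dvd_mul_right _ _)
  have d2 : c₂ ∣ q := hc'.dvd_of_dvd_mul_left (h ▸ dvd_mul_left _ _)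
  have h3 : p.natDegree + q.natDegree = c₁.natDegree + c₂.natDegree := by
    rw [← hp.natDegree_mul hq, ← h, h1.natDegree_mul h2]
  have h4 := Polynomial.natDegree_le_of_dvd d1 hp.ne_zero
  have h5 := Polynomial.natDegree_le_of_dvd d2 hq.ne_zero
  exact ⟨(Polynomial.eq_of_monic_of_dvd_of_natDegree_le h1 hp d1 (by omega)).symm,
    (Polynomial.eq_of_monic_of_dvd_of_natDegree_le h2 hq d2 (by omega)).symm⟩

/-- **The coprime splitting of a matrix.** -/
theorem exists_split {F : Type u} [Field F] {n k r : ℕ} (A : Matrix (Fin n) (Fin n) F) (p q : F[X]) (hp : p.Monic)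
    (hq : q.Monic) (hpk : p.natDegree = k) (hqr : q.natDegree = r) (hco : IsCoprime p q) (hA : A.charpoly = p * q) :
    ∃ (B : Matrix (Fin k) (Fin k) F) (E : Matrix (Fin r) (Fin r) F) (P : Matrix (Fin n) (Fin k ⊕ Fin r) F)
      (P' : Matrix (Fin k ⊕ Fin r) (Fin n) F), P * P' = 1 ∧ P' * P = 1 ∧ P' * A * P = fromBlocks B 0 0 E ∧
      B.charpoly = p ∧ E.charpoly = q := by
  classical
  obtain ⟨a, ha⟩ : ∃ a : Module.End F (Fin n → F), a = Matrix.toLin' A := ⟨_, rfl⟩
  have hac : a.charpoly = p * q := by rw [ha, Matrix.charpoly_toLin', hA]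
  have hcom : ∀ (s : F[X]) (x : Fin n → F), aeval a s (a x) = a (aeval a s x) := fun s x =>
    (aeval_intertwine a a a (fun _ => rfl) s x).symm
  have hmap : ∀ (s : F[X]), ∀ x ∈ LinearMap.ker (aeval a s), a x ∈ LinearMap.ker (aeval a s) := fun s x hx => by
    rw [LinearMap.mem_ker] at hx ⊢
    rw [hcom, hx, map_zero]
  have hdis := Polynomial.disjoint_ker_aeval_of_isCoprime a hco
  have hsup : LinearMap.ker (aeval a p) ⊔ LinearMap.ker (aeval a q) = ⊤ := by
    rw [Polynomial.sup_ker_aeval_eq_ker_aeval_mul_of_coprime a hco, ← hac, LinearMap.aeval_self_charpoly, LinearMap.ker_zero]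
  have hcompl : IsCompl (LinearMap.ker (aeval a p)) (LinearMap.ker (aeval a q)) := ⟨hdis, codisjoint_iff.2 hsup⟩
  obtain ⟨f₁, hf₁⟩ : ∃ f : Module.End F (LinearMap.ker (aeval a p)), f = a.restrict (hmap p) := ⟨_, rfl⟩
  obtain ⟨f₂, hf₂⟩ : ∃ f : Module.End F (LinearMap.ker (aeval a q)), f = a.restrict (hmap q) := ⟨_, rfl⟩
  let e := Submodule.prodEquivOfIsCompl _ _ hcompl
  have hconj : e.conj (f₁.prodMap f₂) = a := by
    refine LinearMap.ext fun x => ?_
    obtain ⟨y, rfl⟩ := e.surjective x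
    rw [LinearEquiv.conj_apply_apply, LinearEquiv.symm_apply_apply]
    change ((f₁ y.1 : Fin n → F)) + (f₂ y.2 : Fin n → F) = a ((y.1 : Fin n → F) + (y.2 : Fin n → F))
    rw [map_add, hf₁, hf₂]
    rfl
  have hchar : f₁.charpoly * f₂.charpoly = p * q := by
    rw [← LinearMap.charpoly_prodMap, ← LinearEquiv.charpoly_conj e, hconj, hac]
  have hz₁ : aeval f₁ p = 0 := LinearMap.ext fun x => Subtype.ext (by
    have h1 := aeval_intertwine (LinearMap.ker (aeval a p)).subtype f₁ a (fun x => by rw [hf₁]; rfl) p x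
    exact h1.trans (LinearMap.mem_ker.1 x.2))
  have hz₂ : aeval f₂ q = 0 := LinearMap.ext fun x => Subtype.ext (by
    have h1 := aeval_intertwine (LinearMap.ker (aeval a q)).subtype f₂ a (fun x => by rw [hf₂]; rfl) q x
    exact h1.trans (LinearMap.mem_ker.1 x.2))
  have hm : ∀ {W : Type u} [AddCommGroup W] [Module F W] [Module.Finite F W] (f : Module.End F W) (s t : F[X]),
      aeval f s = 0 → IsCoprime s t → IsCoprime f.charpoly t := by
    intro W _ _ _ f s t hs hst
    let b := Module.finBasis F W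
    rw [← LinearMap.charpoly_toMatrix f b]
    refine isCoprime_charpoly _ ?_ hst
    have e1 : LinearMap.toMatrix b b f = (LinearMap.toMatrixAlgEquiv b).toAlgHom f := rfl
    rw [e1, aeval_algHom_apply, hs, map_zero]
  obtain ⟨hc₁, hc₂⟩ := eq_of_coprime f₁.charpoly_monic f₂.charpoly_monic hp hq hchar (hm f₁ p q hz₁ hco) (hm f₂ q p hz₂ hco.symm)
  have hd₁ : Module.finrank F (LinearMap.ker (aeval a p)) = k := by
    rw [← LinearMap.charpoly_natDegree f₁, hc₁, hpk]
  have hd₂ : Module.finrank F (LinearMap.ker (aeval a q)) = r := by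
    rw [← LinearMap.charpoly_natDegree f₂, hc₂, hqr]
  let b₁ := Module.finBasisOfFinrankEq F (LinearMap.ker (aeval a p)) hd₁
  let b₂ := Module.finBasisOfFinrankEq F (LinearMap.ker (aeval a q)) hd₂
  let b := (b₁.prod b₂).map e
  refine ⟨LinearMap.toMatrix b₁ b₁ f₁, LinearMap.toMatrix b₂ b₂ f₂, (Pi.basisFun F (Fin n)).toMatrix b,
    b.toMatrix (Pi.basisFun F (Fin n)), Module.Basis.toMatrix_mul_toMatrix_flip _ _, Module.Basis.toMatrix_mul_toMatrix_flip _ _,
    ?_, by rw [LinearMap.charpoly_toMatrix, hc₁], by rw [LinearMap.charpoly_toMatrix, hc₂]⟩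
  have hAa : A = LinearMap.toMatrix (Pi.basisFun F (Fin n)) (Pi.basisFun F (Fin n)) a := by
    rw [ha, LinearMap.toMatrix_eq_toMatrix', LinearMap.toMatrix'_toLin']
  conv_lhs => rw [hAa]
  rw [basis_toMatrix_mul_linearMap_toMatrix_mul_basis_toMatrix, ← LinearMap.toMatrix_prodMap b₁ b₂ f₁ f₂]
  ext i j
  rw [LinearMap.toMatrix_apply, LinearMap.toMatrix_apply]
  have h1 : a (b j) = e ((f₁.prodMap f₂) ((b₁.prod b₂) j)) := by
    conv_lhs => rw [← congrArg (fun g : Module.End F (Fin n → F) => g (b j)) hconj]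
    change (e.conj (f₁.prodMap f₂)) (e ((b₁.prod b₂) j)) = _
    rw [LinearEquiv.conj_apply_apply, LinearEquiv.symm_apply_apply]
  rw [h1]
  change (b₁.prod b₂).repr (e.symm (e _)) i = _
  rw [LinearEquiv.symm_apply_apply]

end Cfsg.Agent.H236.TL
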